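import Groth.Agent.CalgA.LimFP
import Groth.Agent.FlatMor.K249.FGLimit

/-!
# Isomorphisms of two families of schemes as correspondences; from Noetherian to affine test schemes (helper67)

`CPt f₁ f₂ u` : a scheme `Y` over `T` which is at the same time the base change of `f₁ : X₁ ⟶ B` and of
`f₂ : X₂ ⟶ B` along `u : T ⟶ B`, i.e. an isomorphism of the two base changes.
* `CPt.IsUniv P s₀` : universality for the test schemes with `P`;
* `univ_affine` : universality for locally Noetherian tests implies universality for affine tests, over a Noetherian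
  affine base, for families of finite presentation.
-/

set_option autoImplicit false
universe u

open CategoryTheory CategoryTheory.Limits AlgebraicGeometry

namespace K67

variable {X₁ X₂ B : Scheme.{u}}

/-- An isomorphism of the base changes of `f₁` and `f₂` along `u`. -/
structure CPt (f₁ : X₁ ⟶ B) (f₂ : X₂ ⟶ B) {T : Scheme.{u}} (u : T ⟶ B) where
  /-- the total space -/
  Y : Scheme.{u}
  /-- the structure morphism -/
  q : Y ⟶ T
  /-- the first projection -/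
  p₁ : Y ⟶ X₁
  /-- the second projection -/
  p₂ : Y ⟶ X₂
  sq₁ : IsPullback p₁ q f₁ u
  sq₂ : IsPullback p₂ q f₂ u

namespace CPt

variable {f₁ : X₁ ⟶ B} {f₂ : X₂ ⟶ B} {T T' T'' : Scheme.{u}} {u : T ⟶ B} {u' : T' ⟶ B} {u'' : T'' ⟶ B}

/-- `s` restricts to `s'` along `t`. -/
def Rel (s : CPt f₁ f₂ u) (s' : CPt f₁ f₂ u') (t : T' ⟶ T) : Prop :=
  ∃ b : s'.Y ⟶ s.Y, b ≫ s.p₁ = s'.p₁ ∧ b ≫ s.p₂ = s'.p₂ ∧ b ≫ s.q = s'.q ≫ t

theorem Rel.id (s : CPt f₁ f₂ u) : s.Rel s (𝟙 T) := ⟨𝟙 _, by simp, by simp, by simp⟩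

theorem Rel.comp {s : CPt f₁ f₂ u} {s' : CPt f₁ f₂ u'} {s'' : CPt f₁ f₂ u''} {t : T' ⟶ T} {t' : T'' ⟶ T'}
    (h : s.Rel s' t) (h' : s'.Rel s'' t') : s.Rel s'' (t' ≫ t) := by
  obtain ⟨b, h1, h2, h3⟩ := h
  obtain ⟨b', h1', h2', h3'⟩ := h'
  exact ⟨b' ≫ b, by rw [Category.assoc, h1, h1'], by rw [Category.assoc, h2, h2'], by
    rw [Category.assoc, h3, reassoc_of% h3']⟩

/-- The comparison of two base changes. -/
theorem exists_b (s : CPt f₁ f₂ u) (s' : CPt f₁ f₂ u') (t : T' ⟶ T) (h : t ≫ u = u') :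
    ∃ b : s'.Y ⟶ s.Y, b ≫ s.p₁ = s'.p₁ ∧ b ≫ s.q = s'.q ≫ t :=
  ⟨s.sq₁.lift s'.p₁ (s'.q ≫ t) (by rw [Category.assoc, h]; exact s'.sq₁.w), s.sq₁.lift_fst _ _ _,
    s.sq₁.lift_snd _ _ _⟩

theorem rel_iff {s : CPt f₁ f₂ u} {s' : CPt f₁ f₂ u'} {t : T' ⟶ T} {b : s'.Y ⟶ s.Y} (h1 : b ≫ s.p₁ = s'.p₁)
    (h2 : b ≫ s.q = s'.q ≫ t) : s.Rel s' t ↔ b ≫ s.p₂ = s'.p₂ := by
  constructor
  · rintro ⟨b', h3, h4, h5⟩
    obtain rfl : b = b' := s.sq₁.hom_ext (h1.trans h3.symm) (h2.trans h5.symm)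
    exact h4
  · exact fun h => ⟨b, h1, h, h2⟩

theorem Rel.of_comp {s : CPt f₁ f₂ u} {s' : CPt f₁ f₂ u'} {s'' : CPt f₁ f₂ u''} {t : T' ⟶ T} {t' : T'' ⟶ T'}
    (h : s.Rel s' t) (h' : s.Rel s'' (t' ≫ t)) (hu' : t' ≫ u' = u'') : s'.Rel s'' t' := by
  obtain ⟨b, h1, h2, h3⟩ := h
  obtain ⟨b', h1', h3'⟩ := exists_b s' s'' t' hu'
  rw [rel_iff h1' h3', ← h2]
  have := (rel_iff (s := s) (s' := s'') (t := t' ≫ t) (b := b' ≫ b) (by rw [Category.assoc, h1, h1'])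
    (by rw [Category.assoc, h3, reassoc_of% h3'])).1 h'
  rwa [Category.assoc] at this

/-- The restriction. -/
@[simps] noncomputable def res (s : CPt f₁ f₂ u) (t : T' ⟶ T) : CPt f₁ f₂ (t ≫ u) where
  Y := pullback s.q t
  q := pullback.snd s.q t
  p₁ := pullback.fst s.q t ≫ s.p₁
  p₂ := pullback.fst s.q t ≫ s.p₂
  sq₁ := by simpa using ((IsPullback.of_hasPullback s.q t).paste_horiz s.sq₁)
  sq₂ := by simpa using ((IsPullback.of_hasPullback s.q t).paste_horiz s.sq₂)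

theorem rel_res (s : CPt f₁ f₂ u) (t : T' ⟶ T) : s.Rel (s.res t) t :=
  ⟨pullback.fst s.q t, rfl, rfl, pullback.condition⟩

theorem exists_res (s : CPt f₁ f₂ u) (t : T' ⟶ T) (h : t ≫ u = u') : ∃ s' : CPt f₁ f₂ u', s.Rel s' t := by
  subst h
  exact ⟨s.res t, s.rel_res t⟩

/-- Universality with respect to the test schemes with `P`. -/
def IsUniv (P : Scheme.{u} → Prop) {W : Scheme.{u}} {w : W ⟶ B} (s₀ : CPt f₁ f₂ w) : Prop :=
  ∀ (T : Scheme.{u}), P T → ∀ (u : T ⟶ B) (s : CPt f₁ f₂ u), ∃! t : T ⟶ W, t ≫ w = u ∧ s₀.Rel s t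

theorem IsUniv.eq {P : Scheme.{u} → Prop} {W : Scheme.{u}} {w : W ⟶ B} {s₀ : CPt f₁ f₂ w} (h : IsUniv P s₀)
    (hT : P T) {s : CPt f₁ f₂ u} {t t' : T ⟶ W} (ht : t ≫ w = u) (ht' : t' ≫ w = u) (hr : s₀.Rel s t)
    (hr' : s₀.Rel s t') : t = t' := (h T hT u s).unique ⟨ht, hr⟩ ⟨ht', hr'⟩

end CPt

end K67
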