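import Groth.Agent.VecBal.K67.CPt

/-!
# From Noetherian to affine test schemes (helper67)
-/

set_option autoImplicit false
set_option backward.isDefEq.respectTransparency false
set_option backward.defeqAttrib.useBackward true
universe u

open CategoryTheory CategoryTheory.Limits AlgebraicGeometry Opposite

namespace K67.CPt

open Groth.Agent.CalgA.LimFP

variable {X₁ X₂ B : Scheme.{u}} {f₁ : X₁ ⟶ B} {f₂ : X₂ ⟶ B}

section Cofiltered

variable {I : Type u} [SmallCategory I] [IsCofiltered I] {D : I ⥤ Scheme.{u}} {c : Cone D}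
  [∀ (i j : I) (f : i ⟶ j), IsAffineHom (D.map f)] [∀ i, CompactSpace (D.obj i)]
  [∀ i, QuasiSeparatedSpace (D.obj i)]
  (t : ∀ i, D.obj i ⟶ B) (ht : ∀ {i j : I} (a : i ⟶ j), D.map a ≫ t j = t i)
  (u : c.pt ⟶ B) (hu : ∀ i, c.π.app i ≫ t i = u)

/-- The models of the base changes. -/
noncomputable def mdl (hu : ∀ i, c.π.app i ≫ t i = u) {X : Scheme.{u}} (f : X ⟶ B) [LocallyOfFinitePresentation f] [QuasiCompact f]
    [QuasiSeparated f] {Y : Scheme.{u}} {p : Y ⟶ X} {q : Y ⟶ c.pt} (sq : IsPullback p q f u) (i : I) :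
    Mdl (D := D) (c := c) q i where
  A := pullback f (t i)
  f := pullback.snd f (t i)
  p := pullback.lift p (q ≫ c.π.app i) (by rw [Category.assoc, hu, sq.w])
  h := by
    refine IsPullback.of_right (h₁₂ := pullback.fst f (t i)) (h₂₂ := t i) (v₁₃ := f) ?_ (by simp)
      (IsPullback.of_hasPullback f (t i))
    rw [pullback.lift_fst, hu]
    exact sq
  lfp := inferInstance
  qc := inferInstance
  qs := inferInstance

include ht in
/-- An isomorphism of base changes comes from a stage. -/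
theorem exists_stage [LocallyOfFinitePresentation f₁] [QuasiCompact f₁] [QuasiSeparated f₁]
    [LocallyOfFinitePresentation f₂] [QuasiCompact f₂] [QuasiSeparated f₂] (hc : IsLimit c)
    (hu : ∀ i, c.π.app i ≫ t i = u) (s : CPt f₁ f₂ u) :
    ∃ (j : I) (s' : CPt f₁ f₂ (t j)), s'.Rel s (c.π.app j) := by
  obtain ⟨i⟩ := IsCofiltered.nonempty (C := I)
  let M := mdl t u hu f₁ s.sq₁ i
  let N := mdl t u hu f₂ s.sq₂ i
  obtain ⟨j, a, e, he⟩ := Mdl.exists_iso hc M N (𝟙 s.Y) (Category.id_comp _)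
  refine ⟨j, ⟨(M.bc a).A, (M.bc a).f, pullback.fst M.f (D.map a) ≫ pullback.fst f₁ (t i),
    e.φ ≫ pullback.fst N.f (D.map a) ≫ pullback.fst f₂ (t i), ?_, ?_⟩, (M.bc a).p, ?_, ?_, ?_⟩
  · have := (IsPullback.of_hasPullback M.f (D.map a)).paste_horiz (IsPullback.of_hasPullback f₁ (t i))
    rwa [ht] at this
  · have h1 := (IsPullback.of_hasPullback N.f (D.map a)).paste_horiz (IsPullback.of_hasPullback f₂ (t i))
    rw [ht] at h1
    have h2 : IsPullback e.φ (M.bc a).f (N.bc a).f (𝟙 _) :=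
      IsPullback.of_horiz_isIso ⟨by rw [e.w, Category.comp_id]⟩
    have h3 := h2.paste_horiz h1
    rwa [Category.id_comp] at h3
  · change pullback.lift M.p _ _ ≫ pullback.fst _ _ ≫ pullback.fst _ _ = s.p₁
    rw [pullback.lift_fst_assoc]
    exact pullback.lift_fst _ _ _
  · have h1 : (M.bc a).p ≫ e.φ = (N.bc a).p := e.wp.trans (Category.id_comp _)
    rw [← Category.assoc, h1]
    change pullback.lift N.p _ _ ≫ pullback.fst _ _ ≫ pullback.fst _ _ = s.p₂
    rw [pullback.lift_fst_assoc]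
    exact pullback.lift_fst _ _ _
  · exact pullback.lift_snd _ _ _

include ht in
/-- Two isomorphisms of base changes which agree over the limit agree at a stage. -/
theorem exists_eq_stage [LocallyOfFinitePresentation f₁] [QuasiCompact f₁] [QuasiSeparated f₁]
    [LocallyOfFinitePresentation f₂] (hc : IsLimit c) (hu : ∀ i, c.π.app i ≫ t i = u) (s : CPt f₁ f₂ u) (i : I)
    (r r' : CPt f₁ f₂ (t i)) (h : r.Rel s (c.π.app i)) (h' : r'.Rel s (c.π.app i)) :
    ∃ (j : I) (a : j ⟶ i) (s' : CPt f₁ f₂ (t j)), r.Rel s' (D.map a) ∧ r'.Rel s' (D.map a) := by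
  obtain ⟨b, hb1, hb2, hb3⟩ := h
  obtain ⟨b', hb1', hb2', hb3'⟩ := h'
  obtain ⟨e, he1, he3⟩ := exists_b r' r (𝟙 _) (Category.id_comp _)
  rw [Category.comp_id] at he3
  have hbe : b ≫ e = b' := by
    apply r'.sq₁.hom_ext
    · rw [Category.assoc, he1, hb1, hb1']
    · rw [Category.assoc, he3, hb3, hb3']
  have hb : IsPullback b s.q r.q (c.π.app i) := by
    refine IsPullback.of_right (h₁₂ := r.p₁) (h₂₂ := t i) (v₁₃ := f₁) ?_ hb3 r.sq₁
    rw [hb1, hu]
    exact s.sq₁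
  have hl1 : LocallyOfFinitePresentation r.q := MorphismProperty.of_isPullback r.sq₁ inferInstance
  have hl2 : QuasiCompact r.q := MorphismProperty.of_isPullback r.sq₁ inferInstance
  have hl3 : QuasiSeparated r.q := MorphismProperty.of_isPullback r.sq₁ inferInstance
  have h1 : ∀ {j k : Over i} (a : j ⟶ k), IsAffineHom ((bcDiagram D r.q).map a) :=
    fun a => isAffineHom_bcDiagram_map a
  have h2 : ∀ j : Over i, CompactSpace ((bcDiagram D r.q).obj j) :=
    fun j => compactSpace_bcDiagram_obj j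
  let τ : bcDiagram D r.q ⟶ (Functor.const (Over i)).obj B :=
    { app := fun j => pullback.fst _ _ ≫ r.q ≫ t i
      naturality := fun j k a => by simp }
  obtain ⟨j, a, hj⟩ := Scheme.exists_hom_comp_eq_comp_of_locallyOfFiniteType
    (bcDiagram D r.q) τ f₂ (bcCone hb) (isLimitBcCone hc hb) (i := Over.mk (𝟙 i))
    (pullback.fst _ _ ≫ r.p₂) (pullback.fst _ _ ≫ e ≫ r'.p₂) (by
      rw [Category.assoc, r.sq₂.w]) (by
      rw [Category.assoc, Category.assoc, r'.sq₂.w, reassoc_of% he3]) (by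
      simp only [bcCone_π_app, pullback.lift_fst_assoc]
      rw [hb2, reassoc_of% hbe, hb2'])
  have hj' : pullback.fst r.q (D.map j.hom) ≫ r.p₂ = pullback.fst r.q (D.map j.hom) ≫ e ≫ r'.p₂ := by
    simpa using hj
  let s₁ := r.res (D.map j.hom)
  refine ⟨j.left, j.hom, ⟨s₁.Y, s₁.q, s₁.p₁, s₁.p₂, ?_, ?_⟩, ?_, ?_⟩
  · rw [← ht j.hom]; exact s₁.sq₁
  · rw [← ht j.hom]; exact s₁.sq₂
  · exact ⟨pullback.fst _ _, rfl, rfl, pullback.condition⟩
  · refine ⟨pullback.fst _ _ ≫ e, ?_, ?_, ?_⟩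
    · rw [Category.assoc, he1]; rfl
    · rw [Category.assoc]
      exact hj'.symm
    · rw [Category.assoc, he3]
      exact pullback.condition

end Cofiltered

/-- Over a Noetherian affine base: universality for locally Noetherian test schemes implies universality for affine
test schemes. -/
theorem univ_affine {A : CommRingCat.{u}} [IsNoetherianRing A] {f₁ : X₁ ⟶ Spec A} {f₂ : X₂ ⟶ Spec A}
    [LocallyOfFinitePresentation f₁] [QuasiCompact f₁] [QuasiSeparated f₁]
    [LocallyOfFinitePresentation f₂] [QuasiCompact f₂] [QuasiSeparated f₂] {W : Scheme.{u}} {w : W ⟶ Spec A}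
    [LocallyOfFinitePresentation w] {s₀ : CPt f₁ f₂ w} (h : IsUniv (fun T => IsLocallyNoetherian T) s₀) :
    IsUniv (fun T => IsAffine T) s₀ := by
  -- reduction to spectra
  suffices key : ∀ (R : CommRingCat.{u}) (u : Spec R ⟶ Spec A) (s : CPt f₁ f₂ u),
      ∃! t : Spec R ⟶ W, t ≫ w = u ∧ s₀.Rel s t by
    intro T hT u s
    let e := T.isoSpec
    let s' : CPt f₁ f₂ (e.inv ≫ u) := s.res e.inv
    obtain ⟨t, ⟨h1, h2⟩, h3⟩ := key _ (e.inv ≫ u) s'
    have hs : s.Rel s' e.inv := s.rel_res _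
    have hs' : s'.Rel s e.hom := by
      refine Rel.of_comp (s := s) hs (by simpa using Rel.id s) (by simp)
    refine ⟨e.hom ≫ t, ⟨by rw [Category.assoc, h1, e.hom_inv_id_assoc], h2.comp hs'⟩, ?_⟩
    rintro t' ⟨h4, h5⟩
    rw [← h3 (e.inv ≫ t') ⟨by rw [Category.assoc, h4], h5.comp hs⟩, e.hom_inv_id_assoc]
  intro R u s
  algebraize [(Spec.preimage u).hom]
  have hu : Spec.map (CommRingCat.ofHom (algebraMap A R)) = u := by
    change Spec.map (CommRingCat.ofHom (Spec.preimage u).hom) = u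
    simp
  let D := K249.FGLimit.specDiagram A R
  let c := K249.FGLimit.specCone A R
  have hc : IsLimit c := K249.FGLimit.isLimitSpecCone A R
  let t : ∀ i, D.obj i ⟶ Spec A := fun i => Spec.map (CommRingCat.ofHom (algebraMap A i.unop.1))
  have ht : ∀ {i j} (a : i ⟶ j), D.map a ≫ t j = t i := by
    intro i j a
    change Spec.map _ ≫ Spec.map _ = Spec.map _
    rw [← Spec.map_comp]
    rfl
  have hu' : ∀ i, c.π.app i ≫ t i = u := by
    intro i
    rw [← hu]
    change Spec.map _ ≫ Spec.map _ = Spec.map _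
    rw [← Spec.map_comp]
    rfl
  have i1 : ∀ i, CompactSpace (D.obj i) := fun i => inferInstance
  have i2 : ∀ i, QuasiSeparatedSpace (D.obj i) := fun i => inferInstance
  have i3 : ∀ i, IsLocallyNoetherian (D.obj i) := fun i => inferInstance
  have hex : ∃ t : Spec R ⟶ W, t ≫ w = u ∧ s₀.Rel s t := by
    obtain ⟨j, s', hs'⟩ := exists_stage (c := c) t ht u hc hu' s
    obtain ⟨τ, ⟨h1, h2⟩, -⟩ := h _ (i3 j) _ s'
    exact ⟨c.π.app j ≫ τ, by rw [Category.assoc, h1, hu'], h2.comp hs'⟩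
  obtain ⟨t₁, ht₁, hr₁⟩ := hex
  refine ⟨t₁, ⟨ht₁, hr₁⟩, ?_⟩
  rintro t₂ ⟨ht₂, hr₂⟩
  have hta : ∀ (t' : Spec R ⟶ W), t' ≫ w = u → ∃ (i : _) (τ : D.obj i ⟶ W), c.π.app i ≫ τ = t' ∧ τ ≫ w = t i := by
    intro t' ht'
    let tt : D ⟶ (Functor.const _).obj (Spec A) :=
      { app := t
        naturality := fun i j a => by simpa using ht a }
    exact Scheme.exists_π_app_comp_eq_of_locallyOfFinitePresentation D tt w c hc t' (by
      ext i
      exact (hu' i).trans ht'.symm)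
  obtain ⟨i, τ₁, h1, h1'⟩ := hta t₁ ht₁
  obtain ⟨i', τ₂, h2, h2'⟩ := hta t₂ ht₂
  let k := IsCofiltered.min i i'
  let a := IsCofiltered.minToLeft i i'
  let a' := IsCofiltered.minToRight i i'
  have e₁ : c.π.app k ≫ D.map a ≫ τ₁ = t₁ := by rw [c.w_assoc, h1]
  have e₂ : c.π.app k ≫ D.map a' ≫ τ₂ = t₂ := by rw [c.w_assoc, h2]
  have w₁ : (D.map a ≫ τ₁) ≫ w = t k := by rw [Category.assoc, h1', ht]
  have w₂ : (D.map a' ≫ τ₂) ≫ w = t k := by rw [Category.assoc, h2', ht]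
  obtain ⟨r, hr⟩ := exists_res s₀ (D.map a ≫ τ₁) w₁
  obtain ⟨r', hr'⟩ := exists_res s₀ (D.map a' ≫ τ₂) w₂
  have g₁ : r.Rel s (c.π.app k) := hr.of_comp (by rw [e₁]; exact hr₁) (hu' k)
  have g₂ : r'.Rel s (c.π.app k) := hr'.of_comp (by rw [e₂]; exact hr₂) (hu' k)
  obtain ⟨j, b, s'', k₁, k₂⟩ := exists_eq_stage (c := c) t ht u hc hu' s k r r' g₁ g₂
  have key : D.map b ≫ D.map a ≫ τ₁ = D.map b ≫ D.map a' ≫ τ₂ :=
    h.eq (u := t j) (i3 j) (by rw [Category.assoc, w₁, ht]) (by rw [Category.assoc, w₂, ht]) (hr.comp k₁)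
      (hr'.comp k₂)
  have e₁' : c.π.app j ≫ D.map b ≫ D.map a ≫ τ₁ = t₁ := by rw [c.w_assoc, e₁]
  have e₂' : c.π.app j ≫ D.map b ≫ D.map a' ≫ τ₂ = t₂ := by rw [c.w_assoc, e₂]
  exact e₂'.symm.trans ((congrArg (fun z => c.π.app j ≫ z) key).symm.trans e₁')

end K67.CPt
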