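import Groth.Agent.VecBal.K67.CPt
import Groth.Agent.ModSt.K599.LMod

/-!
# Isomorphisms of two families of schemes with modules as correspondences (helper67)

`FPt f₁ f₂ E₁ E₂ u` : a scheme with module `y` over `T` which is at the same time the base change of `(X₁, E₁)` and of
`(X₂, E₂)` along `u : T ⟶ B`, i.e. an isomorphism of the two base changes.
-/

set_option autoImplicit false
universe u

open CategoryTheory CategoryTheory.Limits AlgebraicGeometry K599.LMod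

namespace K67

variable {X₁ X₂ B : Scheme.{u}}

/-- An isomorphism of the base changes of `(X₁, E₁)` and `(X₂, E₂)` along `u`. -/
structure FPt (f₁ : X₁ ⟶ B) (f₂ : X₂ ⟶ B) (E₁ : X₁.Modules) (E₂ : X₂.Modules) {T : Scheme.{u}} (u : T ⟶ B) where
  /-- the total space with its module -/
  y : LObj.{u}
  /-- the structure morphism -/
  q : y.Y ⟶ T
  /-- the first projection -/
  α₁ : y ⟶ ⟨X₁, E₁⟩
  /-- the second projection -/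
  α₂ : y ⟶ ⟨X₂, E₂⟩
  cart₁ : Cart α₁
  cart₂ : Cart α₂
  sq₁ : IsPullback α₁.top q f₁ u
  sq₂ : IsPullback α₂.top q f₂ u

namespace FPt

variable {f₁ : X₁ ⟶ B} {f₂ : X₂ ⟶ B} {E₁ : X₁.Modules} {E₂ : X₂.Modules} {T T' T'' : Scheme.{u}} {u : T ⟶ B}
  {u' : T' ⟶ B} {u'' : T'' ⟶ B}

/-- `s` restricts to `s'` along `t`. -/
def Rel (s : FPt f₁ f₂ E₁ E₂ u) (s' : FPt f₁ f₂ E₁ E₂ u') (t : T' ⟶ T) : Prop :=
  ∃ β : s'.y ⟶ s.y, β ≫ s.α₁ = s'.α₁ ∧ β ≫ s.α₂ = s'.α₂ ∧ β.top ≫ s.q = s'.q ≫ t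

theorem Rel.id (s : FPt f₁ f₂ E₁ E₂ u) : s.Rel s (𝟙 T) :=
  ⟨𝟙 _, Category.id_comp _, Category.id_comp _, by rw [id_top, Category.id_comp, Category.comp_id]⟩

theorem Rel.comp {s : FPt f₁ f₂ E₁ E₂ u} {s' : FPt f₁ f₂ E₁ E₂ u'} {s'' : FPt f₁ f₂ E₁ E₂ u''} {t : T' ⟶ T}
    {t' : T'' ⟶ T'} (h : s.Rel s' t) (h' : s'.Rel s'' t') : s.Rel s'' (t' ≫ t) := by
  obtain ⟨b, h1, h2, h3⟩ := h
  obtain ⟨b', h1', h2', h3'⟩ := h'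
  exact ⟨b' ≫ b, by rw [Category.assoc, h1, h1'], by rw [Category.assoc, h2, h2'], by
    rw [comp_top, Category.assoc, h3, reassoc_of% h3']⟩

/-- The comparison of two base changes. -/
theorem existsUnique_β (s : FPt f₁ f₂ E₁ E₂ u) (s' : FPt f₁ f₂ E₁ E₂ u') (t : T' ⟶ T) (h : t ≫ u = u') :
    ∃! β : s'.y ⟶ s.y, β ≫ s.α₁ = s'.α₁ ∧ β.top ≫ s.q = s'.q ≫ t := by
  let b : s'.y.Y ⟶ s.y.Y := s.sq₁.lift s'.α₁.top (s'.q ≫ t) (by rw [Category.assoc, h]; exact s'.sq₁.w)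
  have hb1 : b ≫ s.α₁.top = s'.α₁.top := s.sq₁.lift_fst _ _ _
  have hb2 : b ≫ s.q = s'.q ≫ t := s.sq₁.lift_snd _ _ _
  obtain ⟨β, ⟨h1, h2⟩, h3⟩ := s.cart₁.existsUnique_lift s'.α₁ b hb1
  refine ⟨β, ⟨h2, by rw [h1]; exact hb2⟩, ?_⟩
  rintro β' ⟨h4, h5⟩
  refine h3 β' ⟨?_, h4⟩
  apply s.sq₁.hom_ext
  · rw [hb1, ← h4]; rfl
  · rw [h5, hb2]

theorem rel_iff {s : FPt f₁ f₂ E₁ E₂ u} {s' : FPt f₁ f₂ E₁ E₂ u'} {t : T' ⟶ T} {β : s'.y ⟶ s.y}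
    (h : t ≫ u = u') (h1 : β ≫ s.α₁ = s'.α₁) (h2 : β.top ≫ s.q = s'.q ≫ t) : s.Rel s' t ↔ β ≫ s.α₂ = s'.α₂ := by
  constructor
  · rintro ⟨β', h3, h4, h5⟩
    obtain rfl : β = β' := (existsUnique_β s s' t h).unique ⟨h1, h2⟩ ⟨h3, h5⟩
    exact h4
  · exact fun h => ⟨β, h1, h, h2⟩

theorem Rel.of_comp {s : FPt f₁ f₂ E₁ E₂ u} {s' : FPt f₁ f₂ E₁ E₂ u'} {s'' : FPt f₁ f₂ E₁ E₂ u''} {t : T' ⟶ T}
    {t' : T'' ⟶ T'} (h : s.Rel s' t) (h' : s.Rel s'' (t' ≫ t)) (hu : t ≫ u = u') (hu' : t' ≫ u' = u'') :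
    s'.Rel s'' t' := by
  obtain ⟨b, h1, h2, h3⟩ := h
  obtain ⟨b', ⟨h1', h3'⟩, -⟩ := existsUnique_β s' s'' t' hu'
  rw [rel_iff hu' h1' h3', ← h2]
  have := (rel_iff (s := s) (s' := s'') (t := t' ≫ t) (β := b' ≫ b) (by rw [Category.assoc, hu, hu'])
    (by rw [Category.assoc, h1, h1'])
    (by rw [comp_top, Category.assoc, h3, reassoc_of% h3'])).1 h'
  rwa [Category.assoc] at this

/-- The underlying isomorphism of schemes. -/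
@[simps] def toCPt (s : FPt f₁ f₂ E₁ E₂ u) : CPt f₁ f₂ u := ⟨s.y.Y, s.q, s.α₁.top, s.α₂.top, s.sq₁, s.sq₂⟩

theorem Rel.toCPt {s : FPt f₁ f₂ E₁ E₂ u} {s' : FPt f₁ f₂ E₁ E₂ u'} {t : T' ⟶ T} (h : s.Rel s' t) :
    s.toCPt.Rel s'.toCPt t := by
  obtain ⟨β, h1, h2, h3⟩ := h
  exact ⟨β.top, congrArg LObj.Hom.top h1, congrArg LObj.Hom.top h2, h3⟩

/-- Universality with respect to the test schemes with `P`. -/
def IsUniv (P : Scheme.{u} → Prop) {W : Scheme.{u}} {w : W ⟶ B} (s₀ : FPt f₁ f₂ E₁ E₂ w) : Prop :=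
  ∀ (T : Scheme.{u}), P T → ∀ (u : T ⟶ B) (s : FPt f₁ f₂ E₁ E₂ u), ∃! t : T ⟶ W, t ≫ w = u ∧ s₀.Rel s t

end FPt

end K67
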