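import Groth.Agent.VecBal.K67.GlueRep
import Groth.Agent.ModSt.K599.IsoRep

/-!
# Zariski gluing of the schemes of homomorphisms and of isomorphisms of modules (helper67)

`exists_glue_homRep`, `exists_glue_isoRep`.
-/

set_option autoImplicit false
set_option backward.isDefEq.respectTransparency false
set_option backward.isDefEq.respectTransparency.types false
universe u

open CategoryTheory CategoryTheory.Limits AlgebraicGeometry Opposite K599.LMod Groth.Agent.Picfga.OverRep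

noncomputable section

namespace K67

/-- Base changes of a Zariski cover. -/
theorem cov_of_isPullback {U : Scheme.{u}} {T : Over U} (𝒰 : Cov T) {Y : Scheme.{u}} (q : Y ⟶ T.left)
    (Y' : 𝒰.ι → Scheme.{u}) (b : ∀ i, Y' i ⟶ Y) (q' : ∀ i, Y' i ⟶ (𝒰.V i).left)
    (h : ∀ i, IsPullback (b i) (q' i) q (𝒰.j i).left) :
    Presieve.ofArrows Y' b ∈ Scheme.fpqcPrecoverage Y := by
  apply Scheme.zariskiPrecoverage_le_fpqcPrecoverage
  rw [Scheme.ofArrows_mem_precoverage_iff]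
  refine ⟨fun x => ?_, fun i => ?_⟩
  · obtain ⟨i, v, hv⟩ := 𝒰.covers (q x)
    obtain ⟨w, hw, -⟩ := Scheme.Pullback.exists_preimage_pullback x v hv.symm
    refine ⟨i, (h i).isoPullback.inv w, ?_⟩
    rw [← hw]
    exact congr($((h i).isoPullback_inv_fst) w)
  · exact MorphismProperty.of_isPullback (P := @IsOpenImmersion) (h i).flip (𝒰.isOpen i)

/-- Morphisms of schemes are determined on an fpqc family. -/
theorem sch_ext {ι : Type u} {Y Z : Scheme.{u}} {Y' : ι → Scheme.{u}} {b : ∀ i, Y' i ⟶ Y}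
    (hb : Presieve.ofArrows Y' b ∈ Scheme.fpqcPrecoverage Y) {g g' : Y ⟶ Z} (h : ∀ i, b i ≫ g = b i ≫ g') :
    g = g' := by
  have h1 : (Presieve.ofArrows Y' b).IsSheafFor (yoneda.obj Z) := by
    have h : Presieve.IsSheafFor (yoneda.obj Z) (Sieve.generate (Presieve.ofArrows Y' b)).arrows :=
      GrothendieckTopology.Subcanonical.isSheaf_of_isRepresentable (J := Scheme.fpqcTopology) (yoneda.obj Z) _
        (Precoverage.generate_mem_toGrothendieck hb)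
    exact (Presieve.isSheafFor_iff_generate _).2 h
  rw [Presieve.isSheafFor_arrows_iff] at h1
  obtain ⟨n, -, h2⟩ := h1 (fun i => b i ≫ g') (fun i j W k k' e => by
    change k ≫ b i ≫ g' = k' ≫ b j ≫ g'
    rw [← Category.assoc, e, Category.assoc])
  exact (h2 g h).trans (h2 g' fun _ => rfl).symm

section

variable {X U : Scheme.{u}} {f : X ⟶ U} {G : X.Modules} {A : LObj.{u}}

theorem GPt.cart_β {T T' : Scheme.{u}} {u : T ⟶ U} {u' : T' ⟶ U} {s : GPt f G A u} {s' : GPt f G A u'}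
    {β : s'.y ⟶ s.y} (h : β ≫ s.γ = s'.γ) : Cart β := Cart.of_comp s.cart (by rw [h]; exact s'.cart)

theorem GPt.sq_β {T T' : Scheme.{u}} {u : T ⟶ U} {u' : T' ⟶ U} {s : GPt f G A u} {s' : GPt f G A u'} {t : T' ⟶ T}
    (ht : t ≫ u = u') {β : s'.y ⟶ s.y} (h : β ≫ s.γ = s'.γ) (h' : β.top ≫ s.q = s'.q ≫ t) :
    IsPullback β.top s'.q s.q t := by
  refine IsPullback.of_right (h₁₂ := s.γ.top) (h₂₂ := u) (v₁₃ := f) ?_ h' s.sq
  have : β.top ≫ s.γ.top = s'.γ.top := congrArg LObj.Hom.top h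
  rw [this, ht]
  exact s'.sq

/-- A cover of the base gives a cover of the total space of a point. -/
theorem GPt.exists_cov {T : Over U} (𝒰 : Cov T) (s : GPt f G A T.hom) (s' : ∀ i, GPt f G A (𝒰.V i).hom)
    (h : ∀ i, s.Rel (s' i) (𝒰.j i).left) : ∃ β : ∀ i, (s' i).y ⟶ s.y, (∀ i, β i ≫ s.γ = (s' i).γ) ∧
      (∀ i, IsPullback (β i).top (s' i).q s.q (𝒰.j i).left) ∧ (∀ i, β i ≫ s.χ = (s' i).χ) ∧ (∀ i, Cart (β i)) ∧
      Presieve.ofArrows (fun i => (s' i).y.Y) (fun i => (β i).top) ∈ Scheme.fpqcPrecoverage s.y.Y := by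
  choose β h1 h2 h3 using h
  have h4 : ∀ i, IsPullback (β i).top (s' i).q s.q (𝒰.j i).left := fun i => GPt.sq_β (Over.w (𝒰.j i)) (h1 i) (h2 i)
  exact ⟨β, h1, h4, h3, fun i => GPt.cart_β (h1 i), cov_of_isPullback 𝒰 s.q _ _ _ h4⟩

variable (f G) in
/-- Homomorphisms of modules on the base changes. -/
def homCond (E : X.Modules) : GCond f G ⟨X, E⟩ where
  P s := s.χ.top = s.γ.top
  res s s' t ht h hs := by
    obtain ⟨β, h1, h2, h3⟩ := h
    rw [← h1, ← h3, comp_top, comp_top, hs]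
  loc 𝒰 s s' h hs := by
    obtain ⟨β, h1, h2, h3, h4, h5⟩ := GPt.exists_cov 𝒰 s s' h
    refine sch_ext h5 fun i => ?_
    rw [← comp_top, ← comp_top, h3, h1, hs i]

variable (f G) in
/-- Isomorphisms of modules on the base changes. -/
def isoCond (E : X.Modules) : GCond f G ⟨X, E⟩ where
  P s := s.χ.top = s.γ.top ∧ Cart s.χ
  res s s' t ht h hs := by
    refine ⟨(homCond f G E).res s s' t ht h hs.1, ?_⟩
    obtain ⟨β, h1, h2, h3⟩ := h
    rw [← h3]
    exact (GPt.cart_β h1).comp hs.2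
  loc 𝒰 s s' h hs := by
    refine ⟨(homCond f G E).loc 𝒰 s s' h fun i => (hs i).1, ?_⟩
    obtain ⟨β, h1, h2, h3, h4, h5⟩ := GPt.exists_cov 𝒰 s s' h
    refine LGlue.cart_of_cover _ _ h4 h5 s.χ fun i => ?_
    rw [h3]
    exact (hs i).2

end

open K599.Rep K599.IsoRep

variable {X U : Scheme.{u}} {f : X ⟶ U} {E G : X.Modules}

/-- Points of helper599 as points. -/
abbrev toG {T : Scheme.{u}} {u : T ⟶ U} (s : Pt f E G u) : GPt f G ⟨X, E⟩ u := ⟨s.y, s.γ, s.q, s.sq, s.cart, s.χ⟩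

/-- Points as points of helper599. -/
abbrev ofG {T : Scheme.{u}} {u : T ⟶ U} (s : GPt f G ⟨X, E⟩ u) (h : s.χ.top = s.γ.top) : Pt f E G u :=
  ⟨s.y, s.γ, s.q, s.sq, s.cart, s.χ, h⟩

section push

variable {V : Scheme.{u}} (v : V ⟶ U)

/-- Points over a base change as points. -/
def push {T : Scheme.{u}} {u : T ⟶ V}
    (s : Pt (pullback.snd f v) ((Scheme.Modules.pullback (pullback.fst f v)).obj E)
      ((Scheme.Modules.pullback (pullback.fst f v)).obj G) u) : GPt f G ⟨X, E⟩ (u ≫ v) where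
  y := s.y
  γ := s.γ ≫ pbHom ⟨X, G⟩ (pullback.fst f v)
  q := s.q
  sq := s.sq.paste_horiz (IsPullback.of_hasPullback f v)
  cart := s.cart.comp (cart_pbHom _ _)
  χ := s.χ ≫ pbHom ⟨X, E⟩ (pullback.fst f v)

theorem push_top {T : Scheme.{u}} {u : T ⟶ V}
    (s : Pt (pullback.snd f v) ((Scheme.Modules.pullback (pullback.fst f v)).obj E)
      ((Scheme.Modules.pullback (pullback.fst f v)).obj G) u) : (push v s).χ.top = (push v s).γ.top :=
  congrArg (· ≫ pullback.fst f v) s.top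

theorem exists_push {T : Scheme.{u}} {u : T ⟶ V} (s : GPt f G ⟨X, E⟩ (u ≫ v)) (h : s.χ.top = s.γ.top) :
    ∃ s' : Pt (pullback.snd f v) ((Scheme.Modules.pullback (pullback.fst f v)).obj E)
      ((Scheme.Modules.pullback (pullback.fst f v)).obj G) u, (push v s').Rel s (𝟙 T) ∧ (Cart s.χ → Cart s'.χ) := by
  let b : s.y.Y ⟶ pullback f v := pullback.lift s.γ.top (s.q ≫ u) (by rw [s.sq.w, Category.assoc])
  have hb1 : b ≫ pullback.fst f v = s.γ.top := pullback.lift_fst _ _ _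
  have hb2 : b ≫ pullback.snd f v = s.q ≫ u := pullback.lift_snd _ _ _
  obtain ⟨γ, ⟨g1, g2⟩, -⟩ := (cart_pbHom ⟨X, G⟩ (pullback.fst f v)).existsUnique_lift s.γ b hb1
  obtain ⟨χ, ⟨c1, c2⟩, -⟩ := (cart_pbHom ⟨X, E⟩ (pullback.fst f v)).existsUnique_lift s.χ b (hb1.trans h.symm)
  have hsq : IsPullback γ.top s.q (pullback.snd f v) u := by
    rw [g1]
    refine IsPullback.of_right (h₁₂ := pullback.fst f v) (h₂₂ := v) (v₁₃ := f) ?_ hb2 (IsPullback.of_hasPullback f v)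
    rw [hb1]
    exact s.sq
  refine ⟨⟨s.y, γ, s.q, hsq, Cart.of_comp (cart_pbHom ⟨X, G⟩ (pullback.fst f v)) (by rw [g2]; exact s.cart), χ,
    c1.trans g1.symm⟩, ⟨𝟙 _, ?_, ?_, ?_⟩, fun h => ?_⟩
  · exact (Category.id_comp _).trans g2
  · exact (Category.id_comp _).trans (Category.comp_id _).symm
  · exact (Category.id_comp _).trans c2
  · exact Cart.of_comp (cart_pbHom ⟨X, E⟩ (pullback.fst f v)) (by rw [c2]; exact h)

theorem push_rel {T T' : Scheme.{u}} {u : T ⟶ V} {u' : T' ⟶ V}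
    {s : Pt (pullback.snd f v) ((Scheme.Modules.pullback (pullback.fst f v)).obj E)
      ((Scheme.Modules.pullback (pullback.fst f v)).obj G) u}
    {s' : Pt (pullback.snd f v) ((Scheme.Modules.pullback (pullback.fst f v)).obj E)
      ((Scheme.Modules.pullback (pullback.fst f v)).obj G) u'} {t : T' ⟶ T} (ht : t ≫ u = u') :
    (push v s).Rel (push v s') t ↔ s.Rel s' t := by
  constructor
  · rintro ⟨β, h1, h2, h3⟩
    have ht1 : β.top ≫ s.γ.top = s'.γ.top := by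
      apply pullback.hom_ext
      · rw [Category.assoc]
        exact congrArg LObj.Hom.top h1
      · have h2' : β.top ≫ s.q = s'.q ≫ t := h2
        have h4 : (β.top ≫ s.γ.top) ≫ pullback.snd f v = (β.top ≫ s.q) ≫ u := by
          rw [Category.assoc, s.sq.w]
          exact (Category.assoc _ _ _).symm
        rw [h4, h2', s'.sq.w]
        exact (Category.assoc _ _ _).trans (congrArg (s'.q ≫ ·) ht)
    have ht2 : β.top ≫ s.χ.top = s'.χ.top := by rw [s.top, s'.top, ht1]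
    refine ⟨β, ?_, h2, ?_⟩
    · exact (cart_pbHom ⟨X, G⟩ (pullback.fst f v)).hom_ext' ht1 ((Category.assoc _ _ _).trans h1)
    · exact (cart_pbHom ⟨X, E⟩ (pullback.fst f v)).hom_ext' ht2 ((Category.assoc _ _ _).trans h3)
  · rintro ⟨β, h1, h2, h3⟩
    refine ⟨β, ?_, h2, ?_⟩
    · exact (Category.assoc _ _ _).symm.trans (congrArg (· ≫ pbHom ⟨X, G⟩ (pullback.fst f v)) h1)
    · exact (Category.assoc _ _ _).symm.trans (congrArg (· ≫ pbHom ⟨X, E⟩ (pullback.fst f v)) h3)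

end push

/-- The universal property of `IsoR` for affine test schemes. -/
theorem isoR_univ_affine {f : X ⟶ U} {E₁ E₂ : X.Modules} (R : IsoR f E₁ E₂) {T : Scheme.{u}} [IsAffine T] {u : T ⟶ U}
    (s : Pt f E₂ E₁ u) (hs : Cart s.χ) : ∃! t : T ⟶ R.Z, t ≫ R.z = u ∧ R.pt.Rel s t := by
  let e := T.isoSpec
  let s' : Pt f E₂ E₁ (e.inv ≫ u) :=
    ⟨s.y, s.γ, s.q ≫ e.hom, by
      have h2 : IsPullback (𝟙 s.y.Y) (s.q ≫ e.hom) s.q e.inv := IsPullback.of_horiz_isIso ⟨by simp⟩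
      have h3 := h2.paste_horiz s.sq
      simpa using h3, s.cart, s.χ, s.top⟩
  obtain ⟨t, ⟨h1, h2⟩, h3⟩ := R.univ s' hs
  have hs : ∀ t : Spec Γ(T, ⊤) ⟶ R.Z, R.pt.Rel s' t ↔ R.pt.Rel s (e.hom ≫ t) := by
    intro t
    constructor
    · rintro ⟨β, a, b, c⟩
      exact ⟨β, a, b.trans (Category.assoc _ _ _), c⟩
    · rintro ⟨β, a, b, c⟩
      exact ⟨β, a, b.trans (Category.assoc _ _ _).symm, c⟩
  refine ⟨e.hom ≫ t, ⟨by rw [Category.assoc, h1, e.hom_inv_id_assoc], (hs t).1 h2⟩, ?_⟩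
  rintro t' ⟨h4, h5⟩
  have := h3 (e.inv ≫ t') ⟨by rw [Category.assoc, h4], (hs _).2 (by rwa [e.hom_inv_id_assoc])⟩
  rw [← this, e.hom_inv_id_assoc]

/-- **Zariski gluing of the schemes of homomorphisms.** -/
theorem exists_glue_homRep (f : X ⟶ U) (E G : X.Modules) (hG : Coh.IsQCoh G) (Q : MorphismProperty Scheme.{u})
    [IsZariskiLocalAtTarget Q] [Q.IsStableUnderBaseChange]
    (H : ∀ (V : Scheme.{u}) [IsAffine V] (v : V ⟶ U) [IsOpenImmersion v],
      ∃ R : HomRep (pullback.snd f v) ((Scheme.Modules.pullback (pullback.fst f v)).obj E)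
        ((Scheme.Modules.pullback (pullback.fst f v)).obj G), Q R.z) :
    ∃ (Z : Scheme.{u}) (z : Z ⟶ U) (pt : Pt f E G z), Q z ∧
      ∀ {T : Scheme.{u}} {u : T ⟶ U} (s : Pt f E G u), ∃! t : T ⟶ Z, t ≫ z = u ∧ pt.Rel s t := by
  obtain ⟨Z, z, s₀, h1, h2, h3⟩ := exists_univ_of_local hG (homCond f G E) Q fun x => by
    obtain ⟨V, hV, hxV, -⟩ := exists_isAffineOpen_mem_and_subset (X := U) (x := x) (U := ⊤) trivial
    have : IsAffine V := hV
    obtain ⟨R, hR⟩ := H V V.ι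
    refine ⟨V, V.ι, inferInstance, R.Z, R.z, push V.ι R.pt, ⟨⟨x, hxV⟩, rfl⟩, hR, push_top _ _, ?_⟩
    intro T _ u s hs
    obtain ⟨s', hs', -⟩ := exists_push V.ι s hs
    obtain ⟨t, ⟨h1, h2⟩, h3⟩ := R.univ_affine s'
    refine ⟨t, ⟨h1, by simpa using ((push_rel V.ι h1).2 h2).comp hs'⟩, ?_⟩
    rintro t' ⟨h4, h5⟩
    exact h3 t' ⟨h4, (push_rel V.ι h4).1 (by simpa using h5.comp hs'.symm)⟩
  exact ⟨Z, z, ofG s₀ h2, h1, fun {T u} s => h3 T u (toG s) s.top⟩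

/-- **Zariski gluing of the schemes of isomorphisms.** -/
theorem exists_glue_isoRep (f : X ⟶ U) (E₁ E₂ : X.Modules) (hE₁ : Coh.IsQCoh E₁) (Q : MorphismProperty Scheme.{u})
    [IsZariskiLocalAtTarget Q] [Q.IsStableUnderBaseChange]
    (H : ∀ (V : Scheme.{u}) [IsAffine V] (v : V ⟶ U) [IsOpenImmersion v],
      ∃ R : IsoR (pullback.snd f v) ((Scheme.Modules.pullback (pullback.fst f v)).obj E₁)
        ((Scheme.Modules.pullback (pullback.fst f v)).obj E₂), Q R.z) :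
    ∃ (Z : Scheme.{u}) (z : Z ⟶ U) (pt : Pt f E₂ E₁ z), Cart pt.χ ∧ Q z ∧
      ∀ {T : Scheme.{u}} {u : T ⟶ U} (s : Pt f E₂ E₁ u), Cart s.χ → ∃! t : T ⟶ Z, t ≫ z = u ∧ pt.Rel s t := by
  obtain ⟨Z, z, s₀, h1, h2, h3⟩ := exists_univ_of_local hE₁ (isoCond f E₁ E₂) Q fun x => by
    obtain ⟨V, hV, hxV, -⟩ := exists_isAffineOpen_mem_and_subset (X := U) (x := x) (U := ⊤) trivial
    have : IsAffine V := hV
    obtain ⟨R, hR⟩ := H V V.ι
    refine ⟨V, V.ι, inferInstance, R.Z, R.z, push V.ι R.pt, ⟨⟨x, hxV⟩, rfl⟩, hR,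
      ⟨push_top _ _, R.cart.comp (cart_pbHom _ _)⟩, ?_⟩
    intro T _ u s hs
    obtain ⟨s', hs', hc⟩ := exists_push V.ι s hs.1
    obtain ⟨t, ⟨h1, h2⟩, h3⟩ := isoR_univ_affine R s' (hc hs.2)
    refine ⟨t, ⟨h1, by simpa using ((push_rel V.ι h1).2 h2).comp hs'⟩, ?_⟩
    rintro t' ⟨h4, h5⟩
    exact h3 t' ⟨h4, (push_rel V.ι h4).1 (by simpa using h5.comp hs'.symm)⟩
  exact ⟨Z, z, ofG s₀ h2.1, h2.2, h1, fun {T u} s hs => h3 T u (toG s) ⟨s.top, hs⟩⟩

end K67
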