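import Groth.Agent.VecBal.K67.LFun
import Groth.Agent.PicF.K245.RepAff

/-!
# Zariski gluing of universal morphisms of modules on base changes (helper67)

`exists_univ_of_local` : for a condition `Ψ` on the data `GPt f G A` (base changes of `(X, G)` with a morphism to `A`)
stable under base change and local, universal data for affine test schemes over the members of an open cover of the base
glue to universal data for all test schemes.
-/

set_option autoImplicit false
set_option backward.isDefEq.respectTransparency false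
set_option backward.isDefEq.respectTransparency.types false
universe u

open CategoryTheory CategoryTheory.Limits AlgebraicGeometry Opposite K599.LMod Groth.Agent.Picfga.OverRep

noncomputable section

namespace K67

namespace GPt

variable {X U : Scheme.{u}} {f : X ⟶ U} {G : X.Modules} {A : LObj.{u}} {T T' : Scheme.{u}} {u : T ⟶ U}

theorem Rel.symm {s s' : GPt f G A u} (h : s.Rel s' (𝟙 T)) : s'.Rel s (𝟙 T) :=
  Rel.of_comp h (by simpa using Rel.id s) (Category.id_comp _) (Category.id_comp _)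

end GPt

variable {X U : Scheme.{u}} (f : X ⟶ U) (G : X.Modules) (A : LObj.{u})

/-- Conditions on points, stable under base change and local. -/
structure GCond where
  /-- the condition -/
  P : ∀ {T : Scheme.{u}} {u : T ⟶ U}, GPt f G A u → Prop
  res : ∀ {T T' : Scheme.{u}} {u : T ⟶ U} {u' : T' ⟶ U} (s : GPt f G A u) (s' : GPt f G A u') (t : T' ⟶ T),
    t ≫ u = u' → s.Rel s' t → P s → P s'
  loc : ∀ {T : Over U} (𝒰 : Cov T) (s : GPt f G A T.hom) (s' : ∀ i, GPt f G A (𝒰.V i).hom),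
    (∀ i, s.Rel (s' i) (𝒰.j i).left) → (∀ i, P (s' i)) → P s

namespace GCond

open LFun

variable {f G A}

theorem rel_pt {T T' : Over U} (t : T' ⟶ T) (χ : bcL f G T ⟶ A) (χ' : bcL f G T' ⟶ A) :
    (pt f G A χ).Rel (pt f G A χ') t.left ↔ bcMap f G t ≫ χ = χ' :=
  GPt.rel_iff (Over.w t) (bcMap_bcp f G t) (bcMap_snd f G t)

/-- The condition on morphisms. -/
def toCond (Ψ : GCond f G A) : Cond f G A where
  P {T} χ := Ψ.P (pt f G A χ)
  res t χ h := Ψ.res _ _ t.left (Over.w t) ((rel_pt t χ _).2 rfl) h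
  loc 𝒰 χ h := Ψ.loc 𝒰 (pt f G A χ) (fun i => pt f G A (bcMap f G (𝒰.j i) ≫ χ)) (fun i => (rel_pt _ _ _).2 rfl) h

/-- The morphism of a point. -/
theorem exists_elt {T : Over U} (s : GPt f G A T.hom) : ∃ χ : bcL f G T ⟶ A, s.Rel (pt f G A χ) (𝟙 _) :=
  GPt.exists_res s (𝟙 _) (Category.id_comp _) (bcp f G T) (sq_bcp f G T) (cart_bcp f G T)

end GCond

variable {f G A}

open LFun GCond Groth.Agent.Fga.NoethRep Groth.Agent.Desc.ZarGlue in
/-- **Zariski gluing of universal points.** -/
theorem exists_univ_of_local (hG : Coh.IsQCoh G) (Ψ : GCond f G A) (Q : MorphismProperty Scheme.{u})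
    [IsZariskiLocalAtTarget Q] [Q.IsStableUnderBaseChange]
    (H : ∀ x : U, ∃ (V : Scheme.{u}) (v : V ⟶ U) (_ : IsOpenImmersion v) (W : Scheme.{u}) (w : W ⟶ V)
      (s₀ : GPt f G A (w ≫ v)), x ∈ Set.range v ∧ Q w ∧ Ψ.P s₀ ∧
        ∀ (T : Scheme.{u}) [IsAffine T] (u : T ⟶ V) (s : GPt f G A (u ≫ v)), Ψ.P s →
          ∃! t : T ⟶ W, t ≫ w = u ∧ s₀.Rel s t) :
    ∃ (W : Scheme.{u}) (w : W ⟶ U) (s₀ : GPt f G A w), Q w ∧ Ψ.P s₀ ∧
      ∀ (T : Scheme.{u}) (u : T ⟶ U) (s : GPt f G A u), Ψ.P s → ∃! t : T ⟶ W, t ≫ w = u ∧ s₀.Rel s t := by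
  choose V v hv W w s₀ hx hQ hΨ huniv using H
  let F := fn f G Ψ.toCond
  have hF : IsZarSheaf F := isZarSheaf_fn f G hG Ψ.toCond
  let O : U → U.Opens := fun x => (v x).opensRange
  have key : ∀ x : U, ∃ K : Over (O x).toScheme, Q K.hom ∧
      Nonempty (((Over.map (O x).ι).op ⋙ F).RepresentableBy K) := by
    intro x
    have := hv x
    let H : Over (V x) := Over.mk (w x)
    obtain ⟨χ, hχ⟩ := exists_elt (T := (Over.map (v x)).obj H) (s₀ x)
    let ξ : F.obj (op ((Over.map (v x)).obj H)) := ⟨χ, Ψ.res _ _ _ (Category.id_comp _) hχ (hΨ x)⟩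
    have hU : ∀ (T : Over (V x)) [IsAffine T.left] (y : F.obj (op ((Over.map (v x)).obj T))),
        ∃! g : T ⟶ H, F.map ((Over.map (v x)).map g).op ξ = y := by
      intro T _ y
      have hrel : ∀ (g : T ⟶ H), (s₀ x).Rel (pt f G A y.1) g.left ↔ F.map ((Over.map (v x)).map g).op ξ = y := by
        intro g
        have h1 : F.map ((Over.map (v x)).map g).op ξ = y ↔
            bcMap f G ((Over.map (v x)).map g) ≫ χ = y.1 := Subtype.ext_iff
        rw [h1, ← rel_pt]
        constructor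
        · intro h
          exact hχ.of_comp (t' := g.left) (by simpa using h) (Category.id_comp _) (Over.w ((Over.map (v x)).map g))
        · intro h
          simpa using hχ.comp h
      obtain ⟨t, ⟨h1, h2⟩, h3⟩ := huniv x T.left T.hom (pt f G A y.1) y.2
      refine ⟨Over.homMk t h1, (hrel _).1 h2, ?_⟩
      intro g hg
      apply Over.OverMorphism.ext
      exact h3 g.left ⟨Over.w g, (hrel g).2 hg⟩
    have r : ((Over.map (v x)).op ⋙ F).RepresentableBy H :=
      repOfUniversal (F := Groth.Agent.Fga.NoethRep.restr (v x) F) ξ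
        (K245.RepAff.univ_of_affine (isZarSheaf_restr (v x) hF) ξ fun T _ y => hU T y)
    refine ⟨(Over.pullback (v x).isoOpensRange.inv).obj H, Q.pullback_snd _ _ (hQ x),
      ⟨K245.RepAff.repRestrict (v x) (v x).isoOpensRange.inv (O x).ι ?_ r⟩⟩
    exact (v x).isoOpensRange_inv_comp
  choose K hK r using key
  obtain ⟨H, hH, ⟨R⟩⟩ := exists_rep_of_openCover_prop (ι := U) O (fun x => ⟨x, hx x⟩) K (fun x => (r x).some) hF Q hK
  let ξ : F.obj (op H) := R.homEquiv (𝟙 H)
  have hξ : ∀ {T : Over U} (g : T ⟶ H), R.homEquiv g = F.map g.op ξ := by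
    intro T g
    have := R.homEquiv_comp g (𝟙 H)
    rwa [Category.comp_id] at this
  refine ⟨H.left, H.hom, pt f G A ξ.1, hH, ξ.2, ?_⟩
  intro T u s hs
  let T' : Over U := Over.mk u
  obtain ⟨χ, hχ⟩ := exists_elt (T := T') s
  let y : F.obj (op T') := ⟨χ, Ψ.res _ _ _ (Category.id_comp _) hχ hs⟩
  have hrel : ∀ (g : T' ⟶ H), (pt f G A ξ.1).Rel s g.left ↔ F.map g.op ξ = y := by
    intro g
    have h1 : F.map g.op ξ = y ↔ bcMap f G g ≫ ξ.1 = χ := Subtype.ext_iff
    rw [h1, ← rel_pt]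
    constructor
    · intro h
      simpa using h.comp hχ
    · intro h
      simpa using h.comp hχ.symm
  refine ⟨(R.homEquiv.symm y).left, ⟨Over.w _, (hrel _).2 ?_⟩, ?_⟩
  · rw [← hξ, Equiv.apply_symm_apply]
  · rintro t ⟨h1, h2⟩
    let g : T' ⟶ H := Over.homMk t h1
    have h3 : F.map g.op ξ = y := (hrel g).1 h2
    rw [← h3, ← hξ, Equiv.symm_apply_apply]
    rfl

end K67
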