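import Groth.Agent.VecBal.K67.LGlue
import Groth.Agent.Picfga.OverRep

/-!
# Zariski sheaves of morphisms of modules on base changes (helper67)

`GPt f G A u` : a base change `γ : y ⟶ (X, G)` of `(X, G)` along `u : T ⟶ U` with a morphism `χ : y ⟶ A`.
For a condition `Ψ` on such data which is stable under base change and local on `T`, the functor
`T ↦ {χ : (X_T, G_T) ⟶ A | Ψ χ}` on `Over U` is a Zariski sheaf (`isZarSheaf_fn`).
-/

set_option autoImplicit false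
set_option backward.isDefEq.respectTransparency false
set_option backward.isDefEq.respectTransparency.types false
universe u

open CategoryTheory CategoryTheory.Limits AlgebraicGeometry Opposite K599.LMod Groth.Agent.Picfga.OverRep

noncomputable section

namespace K67

/-- A base change of `(X, G)` with a morphism to `A`. -/
structure GPt {X U : Scheme.{u}} (f : X ⟶ U) (G : X.Modules) (A : LObj.{u}) {T : Scheme.{u}} (u : T ⟶ U) where
  /-- the total space -/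
  y : LObj.{u}
  /-- the projection -/
  γ : y ⟶ ⟨X, G⟩
  /-- the structure morphism -/
  q : y.Y ⟶ T
  sq : IsPullback γ.top q f u
  cart : Cart γ
  /-- the morphism to `A` -/
  χ : y ⟶ A

namespace GPt

variable {X U : Scheme.{u}} {f : X ⟶ U} {G : X.Modules} {A : LObj.{u}} {T T' T'' : Scheme.{u}} {u : T ⟶ U}
  {u' : T' ⟶ U} {u'' : T'' ⟶ U}

/-- `s` restricts to `s'` along `t`. -/
def Rel (s : GPt f G A u) (s' : GPt f G A u') (t : T' ⟶ T) : Prop :=
  ∃ β : s'.y ⟶ s.y, β ≫ s.γ = s'.γ ∧ β.top ≫ s.q = s'.q ≫ t ∧ β ≫ s.χ = s'.χ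

theorem Rel.id (s : GPt f G A u) : s.Rel s (𝟙 T) :=
  ⟨𝟙 _, Category.id_comp _, by rw [id_top, Category.id_comp, Category.comp_id], Category.id_comp _⟩

theorem Rel.comp {s : GPt f G A u} {s' : GPt f G A u'} {s'' : GPt f G A u''} {t : T' ⟶ T}
    {t' : T'' ⟶ T'} (h : s.Rel s' t) (h' : s'.Rel s'' t') : s.Rel s'' (t' ≫ t) := by
  obtain ⟨b, h1, h2, h3⟩ := h
  obtain ⟨b', h1', h2', h3'⟩ := h'
  exact ⟨b' ≫ b, by rw [Category.assoc, h1, h1'], by
    rw [comp_top, Category.assoc, h2, reassoc_of% h2'], by rw [Category.assoc, h3, h3']⟩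

/-- The comparison of two base changes. -/
theorem existsUnique_β (s : GPt f G A u) {y : LObj.{u}} (γ : y ⟶ ⟨X, G⟩) {q : y.Y ⟶ T'} (sq : IsPullback γ.top q f u')
    (t : T' ⟶ T) (h : t ≫ u = u') : ∃! β : y ⟶ s.y, β ≫ s.γ = γ ∧ β.top ≫ s.q = q ≫ t := by
  let b : y.Y ⟶ s.y.Y := s.sq.lift γ.top (q ≫ t) (by rw [Category.assoc, h]; exact sq.w)
  have hb1 : b ≫ s.γ.top = γ.top := s.sq.lift_fst _ _ _
  have hb2 : b ≫ s.q = q ≫ t := s.sq.lift_snd _ _ _
  obtain ⟨β, ⟨h1, h2⟩, h3⟩ := s.cart.existsUnique_lift γ b hb1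
  refine ⟨β, ⟨h2, by rw [h1]; exact hb2⟩, ?_⟩
  rintro β' ⟨h4, h5⟩
  refine h3 β' ⟨?_, h4⟩
  apply s.sq.hom_ext
  · rw [hb1, ← h4]; rfl
  · rw [h5, hb2]

theorem rel_iff {s : GPt f G A u} {s' : GPt f G A u'} {t : T' ⟶ T} {β : s'.y ⟶ s.y}
    (h : t ≫ u = u') (h1 : β ≫ s.γ = s'.γ) (h2 : β.top ≫ s.q = s'.q ≫ t) : s.Rel s' t ↔ β ≫ s.χ = s'.χ := by
  constructor
  · rintro ⟨β', h3, h4, h5⟩
    obtain rfl : β = β' := (existsUnique_β s s'.γ s'.sq t h).unique ⟨h1, h2⟩ ⟨h3, h4⟩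
    exact h5
  · exact fun h => ⟨β, h1, h2, h⟩

theorem Rel.of_comp {s : GPt f G A u} {s' : GPt f G A u'} {s'' : GPt f G A u''} {t : T' ⟶ T}
    {t' : T'' ⟶ T'} (h : s.Rel s' t) (h' : s.Rel s'' (t' ≫ t)) (hu : t ≫ u = u') (hu' : t' ≫ u' = u'') :
    s'.Rel s'' t' := by
  obtain ⟨b, h1, h2, h3⟩ := h
  obtain ⟨b', ⟨h1', h2'⟩, -⟩ := existsUnique_β s' s''.γ s''.sq t' hu'
  rw [rel_iff hu' h1' h2', ← h3]
  have := (rel_iff (s := s) (s' := s'') (t := t' ≫ t) (β := b' ≫ b) (by rw [Category.assoc, hu, hu'])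
    (by rw [Category.assoc, h1, h1'])
    (by rw [comp_top, Category.assoc, h2, reassoc_of% h2'])).1 h'
  rwa [Category.assoc] at this

/-- Existence of base changes, with given total space. -/
theorem exists_res (s : GPt f G A u) (t : T' ⟶ T) (h : t ≫ u = u') {y : LObj.{u}} (γ : y ⟶ ⟨X, G⟩) {q : y.Y ⟶ T'}
    (sq : IsPullback γ.top q f u') (cart : Cart γ) : ∃ χ : y ⟶ A, s.Rel ⟨y, γ, q, sq, cart, χ⟩ t := by
  obtain ⟨β, ⟨h1, h2⟩, -⟩ := existsUnique_β s γ sq t h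
  exact ⟨β ≫ s.χ, β, h1, h2, rfl⟩

end GPt

namespace LFun

variable {X U : Scheme.{u}} (f : X ⟶ U) (G : X.Modules) (A : LObj.{u})

/-- The base change of `(X, G)`. -/
abbrev bcL (T : Over U) : LObj.{u} := pb ⟨X, G⟩ (pullback.fst f T.hom)

/-- The projection. -/
abbrev bcp (T : Over U) : bcL f G T ⟶ ⟨X, G⟩ := pbHom ⟨X, G⟩ (pullback.fst f T.hom)

theorem cart_bcp (T : Over U) : Cart (bcp f G T) := cart_pbHom _ _

theorem sq_bcp (T : Over U) : IsPullback (bcp f G T).top (pullback.snd f T.hom) f T.hom :=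
  IsPullback.of_hasPullback _ _

/-- The canonical point. -/
abbrev pt {T : Over U} (χ : bcL f G T ⟶ A) : GPt f G A T.hom :=
  ⟨bcL f G T, bcp f G T, pullback.snd f T.hom, sq_bcp f G T, cart_bcp f G T, χ⟩

variable {T T' T'' : Over U}

/-- The base change of schemes. -/
def tp (t : T' ⟶ T) : pullback f T'.hom ⟶ pullback f T.hom :=
  pullback.lift (pullback.fst _ _) (pullback.snd _ _ ≫ t.left) (by
    rw [Category.assoc, Over.w t]; exact pullback.condition)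

theorem tp_fst (t : T' ⟶ T) : tp f t ≫ pullback.fst _ _ = pullback.fst _ _ := pullback.lift_fst _ _ _
theorem tp_snd (t : T' ⟶ T) : tp f t ≫ pullback.snd _ _ = pullback.snd _ _ ≫ t.left := pullback.lift_snd _ _ _

theorem isPullback_tp (t : T' ⟶ T) : IsPullback (tp f t) (pullback.snd f T'.hom) (pullback.snd f T.hom) t.left := by
  refine IsPullback.of_right (h₁₂ := pullback.fst f T.hom) (h₂₂ := T.hom) (v₁₃ := f) ?_ (tp_snd f t)
    (IsPullback.of_hasPullback _ _)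
  rw [tp_fst, Over.w t]
  exact IsPullback.of_hasPullback _ _

/-- The base change. -/
def bcMap (t : T' ⟶ T) : bcL f G T' ⟶ bcL f G T := (cart_bcp f G T).lift (bcp f G T') (tp f t) (tp_fst f t)

theorem bcMap_top (t : T' ⟶ T) : (bcMap f G t).top = tp f t := (cart_bcp f G T).lift_top _ _ _

theorem bcMap_bcp (t : T' ⟶ T) : bcMap f G t ≫ bcp f G T = bcp f G T' := (cart_bcp f G T).lift_comp _ _ _

theorem cart_bcMap (t : T' ⟶ T) : Cart (bcMap f G t) :=
  Cart.of_comp (cart_bcp f G T) (by rw [bcMap_bcp]; exact cart_bcp f G T')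

theorem bcMap_snd (t : T' ⟶ T) : (bcMap f G t).top ≫ pullback.snd f T.hom = pullback.snd f T'.hom ≫ t.left := by
  rw [bcMap_top, tp_snd]

theorem bcMap_eq {t : T' ⟶ T} {β : bcL f G T' ⟶ bcL f G T} (h1 : β ≫ bcp f G T = bcp f G T')
    (h2 : β.top ≫ pullback.snd f T.hom = pullback.snd f T'.hom ≫ t.left) : β = bcMap f G t :=
  (GPt.existsUnique_β (pt f G (bcL f G T) (𝟙 _)) (bcp f G T') (sq_bcp f G T') t.left (Over.w t)).unique ⟨h1, h2⟩
    ⟨bcMap_bcp f G t, bcMap_snd f G t⟩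

theorem bcMap_id : bcMap f G (𝟙 T) = 𝟙 _ :=
  (bcMap_eq f G (Category.id_comp _) (by
    rw [id_top, Category.id_comp]
    exact (Category.comp_id _).symm)).symm

theorem bcMap_comp (t : T' ⟶ T) (t' : T'' ⟶ T') : bcMap f G (t' ≫ t) = bcMap f G t' ≫ bcMap f G t := by
  refine (bcMap_eq f G ?_ ?_).symm
  · rw [Category.assoc, bcMap_bcp, bcMap_bcp]
  · rw [comp_top, Category.assoc, bcMap_snd, ← Category.assoc, bcMap_snd, Category.assoc]
    rfl

/-- Conditions on morphisms, stable under base change and local. -/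
structure Cond where
  /-- the condition -/
  P : ∀ {T : Over U}, (bcL f G T ⟶ A) → Prop
  res : ∀ {T T' : Over U} (t : T' ⟶ T) (χ : bcL f G T ⟶ A), P χ → P (bcMap f G t ≫ χ)
  loc : ∀ {T : Over U} (𝒰 : Cov T) (χ : bcL f G T ⟶ A), (∀ i, P (bcMap f G (𝒰.j i) ≫ χ)) → P χ

variable {A}

/-- The functor. -/
@[simps] def fn (Φ : Cond f G A) : (Over U)ᵒᵖ ⥤ Type u where
  obj T := {χ : bcL f G T.unop ⟶ A // Φ.P χ}
  map t := ↾fun χ => ⟨bcMap f G t.unop ≫ χ.1, Φ.res _ _ χ.2⟩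
  map_id T := by
    ext χ
    change bcMap f G (𝟙 T.unop) ≫ χ.1 = χ.1
    rw [bcMap_id, Category.id_comp]
  map_comp t t' := by
    ext χ
    change bcMap f G (t'.unop ≫ t.unop) ≫ χ.1 = bcMap f G t'.unop ≫ bcMap f G t.unop ≫ χ.1
    rw [bcMap_comp, Category.assoc]

theorem fn_map_val (Φ : Cond f G A) {T T' : Over U} (t : T' ⟶ T) (χ : (fn f G Φ).obj (op T)) :
    ((fn f G Φ).map t.op χ).1 = bcMap f G t ≫ χ.1 := rfl

theorem cov_mem (T : Over U) (𝒰 : Cov T) :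
    Presieve.ofArrows (fun i => (bcL f G (𝒰.V i)).Y) (fun i => (bcMap f G (𝒰.j i)).top) ∈
      Scheme.fpqcPrecoverage (bcL f G T).Y := by
  apply Scheme.zariskiPrecoverage_le_fpqcPrecoverage
  rw [Scheme.ofArrows_mem_precoverage_iff]
  refine ⟨fun x => ?_, fun i => ?_⟩
  · obtain ⟨i, v, hv⟩ := 𝒰.covers (pullback.snd f T.hom x)
    obtain ⟨w, hw, -⟩ := Scheme.Pullback.exists_preimage_pullback x v hv.symm
    refine ⟨i, (isPullback_tp f (𝒰.j i)).isoPullback.inv w, ?_⟩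
    rw [bcMap_top, ← hw]
    exact congr($((isPullback_tp f (𝒰.j i)).isoPullback_inv_fst) w)
  · rw [bcMap_top]
    exact MorphismProperty.of_isPullback (P := @IsOpenImmersion) (isPullback_tp f (𝒰.j i)).flip (𝒰.isOpen i)

/-- The compatibility of a matching family, for arbitrary tests. -/
theorem compat (Φ : Cond f G A) (T : Over U) (𝒰 : Cov T) (x : ∀ i : 𝒰.ι, (fn f G Φ).obj (op (𝒰.V i)))
    (hx : ∀ (i k : 𝒰.ι) (W : Over U) (a : W ⟶ 𝒰.V i) (b : W ⟶ 𝒰.V k), a ≫ 𝒰.j i = b ≫ 𝒰.j k →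
      (fn f G Φ).map a.op (x i) = (fn f G Φ).map b.op (x k))
    (W : LObj.{u}) (i j : 𝒰.ι) (b : W ⟶ bcL f G (𝒰.V i)) (b' : W ⟶ bcL f G (𝒰.V j))
    (h : b ≫ bcMap f G (𝒰.j i) = b' ≫ bcMap f G (𝒰.j j)) : b ≫ (x i).1 = b' ≫ (x j).1 := by
  have ht : b.top ≫ tp f (𝒰.j i) = b'.top ≫ tp f (𝒰.j j) := by
    have := congrArg LObj.Hom.top h
    rwa [comp_top, comp_top, bcMap_top, bcMap_top] at this
  have hs : (b.top ≫ pullback.snd f (𝒰.V i).hom) ≫ (𝒰.j i).left =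
      (b'.top ≫ pullback.snd f (𝒰.V j).hom) ≫ (𝒰.j j).left := by
    rw [Category.assoc, ← tp_snd, Category.assoc, ← tp_snd, ← Category.assoc, ht, Category.assoc]
  let T₁ : Over U := Over.mk ((b.top ≫ pullback.snd f (𝒰.V i).hom) ≫ (𝒰.V i).hom)
  let α : T₁ ⟶ 𝒰.V i := Over.homMk (b.top ≫ pullback.snd f (𝒰.V i).hom) rfl
  let α' : T₁ ⟶ 𝒰.V j := Over.homMk (b'.top ≫ pullback.snd f (𝒰.V j).hom) (by
    have h1 : (b'.top ≫ pullback.snd f (𝒰.V j).hom) ≫ (𝒰.V j).hom =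
      ((b'.top ≫ pullback.snd f (𝒰.V j).hom) ≫ (𝒰.j j).left) ≫ T.hom := by
      rw [Category.assoc _ _ T.hom, Over.w (𝒰.j j)]
    have h2 : (b.top ≫ pullback.snd f (𝒰.V i).hom) ≫ (𝒰.V i).hom =
      ((b.top ≫ pullback.snd f (𝒰.V i).hom) ≫ (𝒰.j i).left) ≫ T.hom := by
      rw [Category.assoc _ _ T.hom, Over.w (𝒰.j i)]
    refine h1.trans (Eq.trans ?_ h2.symm)
    rw [hs])
  have hα : α ≫ 𝒰.j i = α' ≫ 𝒰.j j := Over.OverMorphism.ext hs
  have hbp : b ≫ bcp f G (𝒰.V i) = b' ≫ bcp f G (𝒰.V j) := by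
    rw [← bcMap_bcp f G (𝒰.j i), ← Category.assoc, h, Category.assoc, bcMap_bcp]
  -- the map to the base change along `T₁`
  let w₀ : W.Y ⟶ pullback f T₁.hom := pullback.lift (b.top ≫ pullback.fst _ _) (𝟙 _) (by
    rw [Category.assoc, pullback.condition, Category.id_comp]
    exact (Category.assoc _ _ _).symm)
  obtain ⟨w, ⟨hw1, hw2⟩, -⟩ := (cart_bcp f G T₁).existsUnique_lift (b ≫ bcp f G (𝒰.V i)) w₀
    (pullback.lift_fst _ _ _)
  have e1 : w ≫ bcMap f G α = b := by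
    refine (cart_bcp f G _).hom_ext' ?_ (by rw [Category.assoc, bcMap_bcp, hw2])
    apply pullback.hom_ext
    · rw [comp_top, bcMap_top, Category.assoc, tp_fst, hw1]
      exact pullback.lift_fst _ _ _
    · rw [comp_top, bcMap_top, Category.assoc, tp_snd, hw1, ← Category.assoc]
      rw [show w₀ ≫ pullback.snd f T₁.hom = 𝟙 _ from pullback.lift_snd _ _ _]
      exact Category.id_comp _
  have e2 : w ≫ bcMap f G α' = b' := by
    refine (cart_bcp f G _).hom_ext' ?_ (by rw [Category.assoc, bcMap_bcp, hw2, hbp])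
    apply pullback.hom_ext
    · rw [comp_top, bcMap_top, Category.assoc, tp_fst, hw1]
      refine (pullback.lift_fst _ _ _).trans ?_
      exact congrArg LObj.Hom.top hbp
    · rw [comp_top, bcMap_top, Category.assoc, tp_snd, hw1, ← Category.assoc]
      rw [show w₀ ≫ pullback.snd f T₁.hom = 𝟙 _ from pullback.lift_snd _ _ _]
      exact Category.id_comp _
  have h3 : bcMap f G α ≫ (x i).1 = bcMap f G α' ≫ (x j).1 := congrArg Subtype.val (hx i j T₁ α α' hα)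
  rw [← e1, Category.assoc, h3, ← Category.assoc, e2]

/-- **The functor is a Zariski sheaf.** -/
theorem isZarSheaf_fn (hG : Coh.IsQCoh G) (Φ : Cond f G A) : IsZarSheaf (fn f G Φ) := by
  intro T 𝒰 x hx
  have hq : Coh.IsQCoh (bcL f G T).M := Groth.Agent.VarietyB.PullSec.isQCoh_pullback _ _ hG
  obtain ⟨ψ, hψ⟩ := LGlue.exists_glue hq (fun i => bcL f G (𝒰.V i)) (fun i => bcMap f G (𝒰.j i))
    (fun i => cart_bcMap f G (𝒰.j i)) (cov_mem f G T 𝒰) (fun i => (x i).1)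
    (fun W i j b b' h => compat f G Φ T 𝒰 x hx W i j b b' h)
  refine ⟨⟨ψ, Φ.loc 𝒰 ψ fun i => by rw [hψ i]; exact (x i).2⟩, fun i => Subtype.ext (hψ i), ?_⟩
  intro ψ' h'
  refine Subtype.ext ?_
  refine LGlue.sep' hq (fun i => bcL f G (𝒰.V i)) (fun i => bcMap f G (𝒰.j i))
    (fun i => cart_bcMap f G (𝒰.j i)) (cov_mem f G T 𝒰) fun i => ?_
  rw [hψ i]
  exact congrArg Subtype.val (h' i)

end LFun

end K67
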