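import Groth.Agent.ModSt.K599.LMod
import Groth.Agent.ModSt.K927.MdPre

/-!
# Morphisms of `LObj` glue along fpqc families (helper67)

`exists_glue`, `sep`, `cart_of_cover` : gluing, separatedness and locality of cartesianness for arbitrary morphisms
`(Y, M) ⟶ (Z, N)` in the category of schemes with modules, along fpqc families of cartesian arrows to `(Y, M)` with `M`
quasi-coherent.
-/

set_option autoImplicit false
set_option backward.isDefEq.respectTransparency false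
set_option backward.isDefEq.respectTransparency.types false
universe v u

open CategoryTheory CategoryTheory.Limits AlgebraicGeometry Opposite ModSt K599.LMod Groth.Agent.Desc.QD

noncomputable section

namespace K67.LGlue

open K927.ModSt

/-- Extensionality in terms of sections. -/
theorem ext_sec {A B : LObj.{u}} {φ ψ : A ⟶ B} (ht : φ.top = ψ.top)
    (h : ∀ (U : B.Y.Opens) (m : Γ(B.M, U)) (e : φ.top ⁻¹ᵁ U ≤ ψ.top ⁻¹ᵁ U),
      ap φ.c U m = rs A.M e (ap ψ.c U m : Γ(A.M, ψ.top ⁻¹ᵁ U))) : φ = ψ := by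
  obtain ⟨t, c⟩ := φ
  obtain ⟨t', c'⟩ := ψ
  cases ht
  have hcc : c = c' := by
    apply ap_ext
    intro U m
    exact (h U m le_rfl).trans (rs_refl _ _ _)
  cases hcc
  rfl

/-- The comparison of inverse images. -/
def kap (y : LObj.{u}) {F Z : Scheme.{u}} (f : F ⟶ y.Y) (g : Z ⟶ F) (c : Z ⟶ y.Y) (w : g ≫ f = c) :
    pb y c ⟶ pb y f :=
  ⟨g, adj g (cmpInv g f c w y.M)⟩

theorem ap_kap (y : LObj.{u}) {F Z : Scheme.{u}} (f : F ⟶ y.Y) (g : Z ⟶ F) (c : Z ⟶ y.Y) (w : g ≫ f = c)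
    (U : F.Opens) (m : Γ(PB f y.M, U)) :
    ap (kap y f g c w).c U m = tr g f c w y.M (le_refl (g ⁻¹ᵁ U)) m := by
  change ap (adj g (cmpInv g f c w y.M)) U m = _
  rw [ap_adj, tr_apply]

theorem ap_pbHom (y : LObj.{u}) {F : Scheme.{u}} (f : F ⟶ y.Y) (U : y.Y.Opens) (m : Γ(y.M, U)) :
    ap (pbHom y f).c U m = sc f y.M (le_refl (f ⁻¹ᵁ U)) m := by
  have h := ap_adj f (𝟙 (PB f y.M)) U m
  rw [ap_id] at h
  rw [← h]
  change ap ((Scheme.Modules.pullbackPushforwardAdjunction f).unit.app y.M) U m =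
    ap ((Scheme.Modules.pullbackPushforwardAdjunction f).homEquiv _ _ (𝟙 _)) U m
  rw [Adjunction.homEquiv_id]
  rfl

theorem kap_pbHom (y : LObj.{u}) {F Z : Scheme.{u}} (f : F ⟶ y.Y) (g : Z ⟶ F) (c : Z ⟶ y.Y) (w : g ≫ f = c) :
    kap y f g c w ≫ pbHom y f = pbHom y c := by
  refine ext_sec w fun U m e => ?_
  change ap (kap y f g c w).c _ (ap (pbHom y f).c U m) = _
  rw [ap_pbHom, ap_kap, tr_sc g f c w y.M le_rfl le_rfl e, ap_pbHom]
  exact (rs_sc _ _ _ _ _).symm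

theorem ofMap_pullH {S : Scheme.{u}} {M N : S.Modules} {F Z : Scheme.{u}} {f : F ⟶ S}
    (v : PB f M ⟶ PB f N) (g : Z ⟶ F) (c : Z ⟶ S) (w : g ≫ f = c) :
    ofMap (pullH v g c c w w) ≫ kap ⟨S, M⟩ f g c w = kap ⟨S, N⟩ f g c w ≫ ofMap v := by
  refine ext_sec ((Category.id_comp g).trans (Category.comp_id g).symm) fun U m e => ?_
  have h1 : ap (kap ⟨S, M⟩ f g c w).c U m = tr g f c w M (le_refl (g ⁻¹ᵁ U)) m := ap_kap ⟨S, M⟩ f g c w U m
  have h2 : ap (kap ⟨S, N⟩ f g c w).c U (ap v U m) = tr g f c w N (le_refl (g ⁻¹ᵁ U)) (ap v U m) :=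
    ap_kap ⟨S, N⟩ f g c w U (ap v U m)
  refine ((congrArg (ap (pullH v g c c w w) (g ⁻¹ᵁ U)) h1).trans
    (ap_pullH_tr v g c c w w (le_refl (g ⁻¹ᵁ U)) m)).trans ?_
  exact h2.symm.trans (rs_refl (PB c N) e _).symm

theorem pbHom_ofMap {S : Scheme.{u}} {M N : S.Modules} {F : Scheme.{u}} (f : F ⟶ S) (v : M ⟶ N) :
    ofMap (PBmap f v) ≫ pbHom ⟨S, M⟩ f = pbHom ⟨S, N⟩ f ≫ ofMap v := by
  refine ext_sec ((Category.id_comp f).trans (Category.comp_id f).symm) fun U m e => ?_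
  have h1 : ap (pbHom ⟨S, M⟩ f).c U m = sc f M (le_refl (f ⁻¹ᵁ U)) m := ap_pbHom ⟨S, M⟩ f U m
  have h2 : ap (pbHom ⟨S, N⟩ f).c U (ap v U m) = sc f N (le_refl (f ⁻¹ᵁ U)) (ap v U m) :=
    ap_pbHom ⟨S, N⟩ f U (ap v U m)
  refine ((congrArg (ap (PBmap f v) (f ⁻¹ᵁ U)) h1).trans (map_sc f v (le_refl (f ⁻¹ᵁ U)) m)).trans ?_
  exact h2.symm.trans (rs_refl (PB f N) e _).symm

theorem rs_ap_congr {A B : LObj.{u}} {φ ψ : A ⟶ B} (h : φ = ψ) {U : B.Y.Opens} (m : Γ(B.M, U))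
    {W : A.Y.Opens} (e : W ≤ φ.top ⁻¹ᵁ U) (e' : W ≤ ψ.top ⁻¹ᵁ U) :
    rs A.M e (ap φ.c U m : Γ(A.M, φ.top ⁻¹ᵁ U)) = rs A.M e' (ap ψ.c U m : Γ(A.M, ψ.top ⁻¹ᵁ U)) := by
  subst h
  rfl

/-- Cartesian lifts of inverse images. -/
theorem exists_to {y z : LObj.{u}} {a : z ⟶ y} (ha : Cart a) {Z : Scheme.{u}} (g : Z ⟶ z.Y) (c : Z ⟶ y.Y)
    (w : g ≫ a.top = c) : ∃ b : pb y c ⟶ z, b.top = g ∧ b ≫ a = pbHom y c :=
  (ha.existsUnique_lift (pbHom y c) g w).exists

theorem cart_ofMap_iff {Y : Scheme.{u}} {M N : Y.Modules} (v : M ⟶ N) :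
    Cart (ofMap v) ↔ IsIso v := by
  constructor
  · intro h
    obtain ⟨χ, ⟨h1, h2⟩, h3⟩ := h.existsUnique_lift (𝟙 (⟨Y, M⟩ : LObj.{u})) (𝟙 Y) (Category.id_comp _)
    obtain ⟨w, rfl⟩ := exists_ofMap χ h1
    rw [← ofMap_comp, ← ofMap_id] at h2
    have h4 : v ≫ w = 𝟙 M := ofMap_injective h2
    refine ⟨w, h4, ?_⟩
    have h5 : ofMap w ≫ ofMap v = 𝟙 _ := by rw [← ofMap_comp, h4, ofMap_id]
    apply ofMap_injective
    rw [ofMap_comp, ofMap_id]
    refine h.hom_ext' ?_ ?_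
    · change 𝟙 Y ≫ 𝟙 Y = 𝟙 Y
      rw [Category.id_comp]
    · rw [Category.assoc, h5, Category.comp_id, Category.id_comp]
  · intro h
    exact _root_.ModSt.IsCart.isoComp (cart_id (⟨Y, N⟩ : LObj.{u})) (asIso v)

section

variable {ι : Type v} {y A : LObj.{u}} (hy : Coh.IsQCoh y.M) (z : ι → LObj.{u}) (a : ∀ i, z i ⟶ y)
  (ha : ∀ i, Cart (a i))
  (hcov : Presieve.ofArrows (fun i => (z i).Y) (fun i => (a i).top) ∈ Scheme.fpqcPrecoverage y.Y)

include hy hcov ha in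
/-- Morphisms are determined on a covering. -/
theorem sep {χ χ' : y ⟶ A} (ht : χ.top = χ'.top) (h : ∀ i, a i ≫ χ = a i ≫ χ') : χ = χ' := by
  refine ext_sec ht fun U m e => ?_
  refine sec_ext (fun i => (a i).top) hcov y.M hy fun i => ?_
  obtain ⟨b, hb1, hb2⟩ := exists_to (ha i) (𝟙 _) (a i).top (Category.id_comp _)
  have h1 : pbHom y (a i).top ≫ χ = pbHom y (a i).top ≫ χ' := by
    rw [← hb2, Category.assoc, h i, Category.assoc]
  have e' : (a i).top ⁻¹ᵁ (χ.top ⁻¹ᵁ U) ≤ (a i).top ⁻¹ᵁ (χ'.top ⁻¹ᵁ U) := (a i).top.preimage_mono e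
  have h2 := rs_ap_congr h1 m (W := (a i).top ⁻¹ᵁ (χ.top ⁻¹ᵁ U)) le_rfl e'
  have h3 : ap (pbHom y (a i).top ≫ χ).c U m = sc (a i).top y.M (le_refl ((a i).top ⁻¹ᵁ (χ.top ⁻¹ᵁ U)))
    (ap χ.c U m) := ap_pbHom y (a i).top (χ.top ⁻¹ᵁ U) (ap χ.c U m)
  have h4 : ap (pbHom y (a i).top ≫ χ').c U m = sc (a i).top y.M (le_refl ((a i).top ⁻¹ᵁ (χ'.top ⁻¹ᵁ U)))
    (ap χ'.c U m) := ap_pbHom y (a i).top (χ'.top ⁻¹ᵁ U) (ap χ'.c U m)
  refine h3.symm.trans (((rs_refl _ _ _).symm.trans h2).trans ?_)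
  refine (congrArg (rs (PB (a i).top y.M) e') h4).trans ?_
  refine (rs_sc (a i).top y.M _ e' _).trans ?_
  exact (sc_rs (a i).top y.M (le_refl _) e (ap χ'.c U m)).symm

include hy hcov ha in
/-- Morphisms over a given morphism of schemes glue. -/
theorem exists_glue_over (φ : ∀ i, z i ⟶ A) (g₀ : y.Y ⟶ A.Y) (hg₀ : ∀ i, (a i).top ≫ g₀ = (φ i).top)
    (H : ∀ (W : LObj.{u}) (i j : ι) (b : W ⟶ z i) (b' : W ⟶ z j), b ≫ a i = b' ≫ a j → b ≫ φ i = b' ≫ φ j) :
    ∃ ψ : y ⟶ A, ψ.top = g₀ ∧ ∀ i, a i ≫ ψ = φ i := by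
  -- the inverse images of `A`
  let P : LObj.{u} := pb A g₀
  have cP : Cart (pbHom A g₀) := cart_pbHom A g₀
  -- factor `φ i` through `P`
  have h1 : ∀ i, ∃ φ' : z i ⟶ P, φ'.top = (a i).top ∧ φ' ≫ pbHom A g₀ = φ i := fun i =>
    (cP.existsUnique_lift (φ i) (a i).top (hg₀ i)).exists
  choose φ' hφ1 hφ2 using h1
  have h2 : ∀ i, ∃ b : pb y (a i).top ⟶ z i, b.top = 𝟙 _ ∧ b ≫ a i = pbHom y (a i).top := fun i =>
    exists_to (ha i) (𝟙 _) (a i).top (Category.id_comp _)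
  choose b hb1 hb2 using h2
  have h3 : ∀ i, ∃ v : PB (a i).top P.M ⟶ PB (a i).top y.M,
      ofMap v ≫ pbHom P (a i).top = b i ≫ φ' i := by
    intro i
    have ht : (b i ≫ φ' i).top = (a i).top := by
      change (b i).top ≫ (φ' i).top = _
      rw [hb1, hφ1]
      exact Category.id_comp _
    obtain ⟨χ, ⟨k1, k2⟩, -⟩ := (cart_pbHom P (a i).top).existsUnique_lift (b i ≫ φ' i) (𝟙 _)
      ((Category.id_comp _).trans ht.symm)
    obtain ⟨v, hv⟩ := exists_ofMap (M := PB (a i).top P.M) (N := PB (a i).top y.M) χ k1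
    exact ⟨v, by rw [← hv]; exact k2⟩
  choose v hv using h3
  -- the compatibility
  have key : ∀ (i j : ι) (Z : Scheme.{u}) (gi : Z ⟶ (z i).Y) (gj : Z ⟶ (z j).Y) (c : Z ⟶ y.Y)
      (wi : gi ≫ (a i).top = c) (wj : gj ≫ (a j).top = c),
      pullH (v i) gi c c wi wi = pullH (v j) gj c c wj wj := by
    intro i j Z gi gj c wi wj
    have e : ∀ (l : ι) (gl : Z ⟶ (z l).Y) (wl : gl ≫ (a l).top = c),
        ofMap (pullH (v l) gl c c wl wl) ≫ pbHom P c = (kap y (a l).top gl c wl ≫ b l) ≫ φ' l := by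
      intro l gl wl
      calc ofMap (pullH (v l) gl c c wl wl) ≫ pbHom P c
          = ofMap (pullH (v l) gl c c wl wl) ≫ kap P (a l).top gl c wl ≫ pbHom P (a l).top := by
            rw [kap_pbHom]
        _ = (ofMap (pullH (v l) gl c c wl wl) ≫ kap P (a l).top gl c wl) ≫ pbHom P (a l).top :=
            (Category.assoc _ _ _).symm
        _ = (kap y (a l).top gl c wl ≫ ofMap (v l)) ≫ pbHom P (a l).top :=
            congrArg (fun t => t ≫ pbHom P (a l).top) (ofMap_pullH (M := P.M) (N := y.M) (v l) gl c wl)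
        _ = (kap y (a l).top gl c wl ≫ b l) ≫ φ' l := by
            rw [Category.assoc, hv l, Category.assoc]
    have hbb : (kap y (a i).top gi c wi ≫ b i) ≫ a i = (kap y (a j).top gj c wj ≫ b j) ≫ a j := by
      rw [Category.assoc, Category.assoc, hb2, hb2, kap_pbHom, kap_pbHom]
    have h5 : (kap y (a i).top gi c wi ≫ b i) ≫ φ' i = (kap y (a j).top gj c wj ≫ b j) ≫ φ' j := by
      refine cP.hom_ext' ?_ ?_
      · change (kap y (a i).top gi c wi ≫ b i).top ≫ (φ' i).top = (kap y (a j).top gj c wj ≫ b j).top ≫ (φ' j).top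
        rw [hφ1, hφ1]
        exact congrArg LObj.Hom.top hbb
      · refine (Category.assoc _ _ _).trans (Eq.trans ?_ (Category.assoc _ _ _).symm)
        rw [hφ2, hφ2]
        exact H _ i j _ _ hbb
    have h6 := (e i gi wi).trans (h5.trans (e j gj wj).symm)
    exact ofMap_injective ((cart_pbHom P c).hom_ext' rfl h6)
  obtain ⟨t, ht⟩ := exists_hom_fpqc (M := P.M) (N := y.M) (fun i => (a i).top) hcov hy v key
  refine ⟨(ofMap t : y ⟶ P) ≫ pbHom A g₀, Category.id_comp _, fun i => ?_⟩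
  -- check over the members
  have hbi : IsIso (b i) := by
    have hc : Cart (b i) := Cart.of_comp (ha i) (by rw [hb2]; exact cart_pbHom _ _)
    obtain ⟨r, ⟨r1, r2⟩, -⟩ := hc.existsUnique_lift (𝟙 (z i)) (𝟙 _) (by rw [hb1]; exact Category.id_comp _)
    refine ⟨r, ?_, r2⟩
    refine hc.hom_ext' ?_ ?_
    · change (b i).top ≫ r.top = 𝟙 _
      rw [hb1, r1]
      exact Category.id_comp _
    · rw [Category.assoc, r2, Category.comp_id, Category.id_comp]
  rw [← cancel_epi (b i), ← Category.assoc, hb2, ← Category.assoc]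
  have h7 : pbHom y (a i).top ≫ (ofMap t : y ⟶ P) = b i ≫ φ' i := by
    rw [← hv i, ← ht i]
    exact (pbHom_ofMap (M := P.M) (N := y.M) (a i).top t).symm
  rw [h7, Category.assoc, hφ2]

include hy hcov ha in
/-- Morphisms glue along fpqc families. -/
theorem exists_glue (φ : ∀ i, z i ⟶ A)
    (H : ∀ (W : LObj.{u}) (i j : ι) (b : W ⟶ z i) (b' : W ⟶ z j), b ≫ a i = b' ≫ a j → b ≫ φ i = b' ≫ φ j) :
    ∃ ψ : y ⟶ A, ∀ i, a i ≫ ψ = φ i := by
  have h1 : (Presieve.ofArrows (fun i => (z i).Y) (fun i => (a i).top)).IsSheafFor (yoneda.obj A.Y) := by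
    have h : Presieve.IsSheafFor (yoneda.obj A.Y)
        (Sieve.generate (Presieve.ofArrows (fun i => (z i).Y) (fun i => (a i).top))).arrows :=
      GrothendieckTopology.Subcanonical.isSheaf_of_isRepresentable (J := Scheme.fpqcTopology) (yoneda.obj A.Y) _
        (Precoverage.generate_mem_toGrothendieck hcov)
    exact (Presieve.isSheafFor_iff_generate _).2 h
  rw [Presieve.isSheafFor_arrows_iff] at h1
  obtain ⟨g₀, h2, -⟩ := h1 (fun i => (φ i).top) (fun i j W g g' e => by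
    obtain ⟨b, hb1, hb2⟩ := exists_to (ha i) g (g ≫ (a i).top) rfl
    obtain ⟨b', hb1', hb2'⟩ := exists_to (ha j) g' (g ≫ (a i).top) e.symm
    have := congrArg LObj.Hom.top (H _ i j b b' (hb2.trans hb2'.symm))
    rw [comp_top, comp_top, hb1, hb1'] at this
    exact this)
  obtain ⟨ψ, -, h3⟩ := exists_glue_over hy z a ha hcov φ g₀ h2 H
  exact ⟨ψ, h3⟩

include hy hcov ha in
/-- Morphisms are determined on a covering. -/
theorem sep' {χ χ' : y ⟶ A} (h : ∀ i, a i ≫ χ = a i ≫ χ') : χ = χ' := by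
  refine sep hy z a ha hcov ?_ h
  have h1 : (Presieve.ofArrows (fun i => (z i).Y) (fun i => (a i).top)).IsSheafFor (yoneda.obj A.Y) := by
    have h : Presieve.IsSheafFor (yoneda.obj A.Y)
        (Sieve.generate (Presieve.ofArrows (fun i => (z i).Y) (fun i => (a i).top))).arrows :=
      GrothendieckTopology.Subcanonical.isSheaf_of_isRepresentable (J := Scheme.fpqcTopology) (yoneda.obj A.Y) _
        (Precoverage.generate_mem_toGrothendieck hcov)
    exact (Presieve.isSheafFor_iff_generate _).2 h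
  rw [Presieve.isSheafFor_arrows_iff] at h1
  obtain ⟨n, -, h2⟩ := h1 (fun i => (a i).top ≫ χ'.top) (fun i j W g g' e => by
    change g ≫ (a i).top ≫ χ'.top = g' ≫ (a j).top ≫ χ'.top
    rw [← Category.assoc, e, Category.assoc])
  exact (h2 χ.top (fun i => congrArg LObj.Hom.top (h i))).trans (h2 χ'.top fun _ => rfl).symm

include hcov ha in
/-- Cartesianness is local. -/
theorem cart_of_cover (ψ : y ⟶ A) (h : ∀ i, Cart (a i ≫ ψ)) : Cart ψ := by
  let P : LObj.{u} := pb A ψ.top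
  obtain ⟨χ, ⟨h1, h2⟩, -⟩ := (cart_pbHom A ψ.top).existsUnique_lift ψ (𝟙 _) (Category.id_comp _)
  obtain ⟨t, rfl⟩ := exists_ofMap (M := P.M) (N := y.M) χ h1
  have hiso : IsIso t := by
    refine K256.StalkPull.isIso_of_cover t fun x => ?_
    obtain ⟨i, w, hw⟩ := exists_of_fpqc hcov x
    refine ⟨_, (a i).top, w, flat_of_fpqc hcov i, hw, ?_⟩
    have h3 := pbHom_ofMap (M := P.M) (N := y.M) (a i).top t
    obtain ⟨b, hb1, hb2⟩ := exists_to (ha i) (𝟙 _) (a i).top (Category.id_comp _)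
    have hb : Cart b := Cart.of_comp (ha i) (by rw [hb2]; exact cart_pbHom _ _)
    have h4 : Cart (pbHom y (a i).top ≫ ψ) := by
      rw [← hb2, Category.assoc]
      exact hb.comp (h i)
    have h5 : (ofMap (PBmap (a i).top t) ≫ pbHom P (a i).top) ≫ pbHom A ψ.top = pbHom y (a i).top ≫ ψ := by
      refine (congrArg (fun k => k ≫ pbHom A ψ.top) h3).trans ((Category.assoc _ _ _).trans ?_)
      exact congrArg (fun k => pbHom y (a i).top ≫ k) h2
    rw [← h5] at h4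
    have h6 : Cart (ofMap (PBmap (a i).top t)) :=
      Cart.of_comp (cart_pbHom P (a i).top) (Cart.of_comp (cart_pbHom A ψ.top) h4)
    exact (cart_ofMap_iff _).1 h6
  rw [← h2]
  exact ((cart_ofMap_iff t).2 hiso).comp (cart_pbHom A ψ.top)

end

end K67.LGlue
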